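import Mathlib

/-!
# Criterion F for the conjugation character (S4792)

If `x` is an element of the finite group `G` whose centraliser `C` normalises an abelian subgroup
`A ≠ 1` such that every element `≠ 1` of `C` acts without fixed points on `A`, then every complex
representation on which `A` acts nontrivially has a nonzero `C`-fixed vector.
-/

set_option autoImplicit false

namespace Cfsg.Agent.H917.CJ

/-- Criterion F: a centraliser `C(x)` normalising an abelian subgroup `A ≠ 1` and acting on it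
without fixed points. -/
def FrobCent (G : Type*) [Group G] : Prop :=
  ∃ (x : G) (A : Subgroup G), A ≠ ⊥ ∧ (∀ a ∈ A, ∀ b ∈ A, a * b = b * a) ∧
    (∀ c : G, c * x = x * c → ∀ a ∈ A, c * a * c⁻¹ ∈ A) ∧
    (∀ c : G, c * x = x * c → c ≠ 1 → ∀ a ∈ A, c * a = a * c → a = 1)

theorem FrobCent.of_equiv {G H : Type*} [Group G] [Group H] (h : FrobCent G) (e : G ≃* H) :
    FrobCent H := by
  obtain ⟨x, A, hA, hab, hn, hs⟩ := h
  refine ⟨e x, A.map e.toMonoidHom, ?_, ?_, ?_, ?_⟩
  · intro h
    apply hA
    rw [Subgroup.map_eq_bot_iff] at h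
    rw [eq_bot_iff]
    intro a ha
    have := h ha
    rw [MonoidHom.mem_ker] at this
    rw [Subgroup.mem_bot]
    exact (map_eq_one_iff e e.injective).1 this
  · rintro _ ⟨a, ha, rfl⟩ _ ⟨b, hb, rfl⟩
    change e a * e b = e b * e a
    rw [← map_mul, ← map_mul, hab a ha b hb]
  · rintro c hc _ ⟨a, ha, rfl⟩
    obtain ⟨c, rfl⟩ := e.surjective c
    have hc' : c * x = x * c := by
      apply e.injective
      rw [map_mul, map_mul, hc]
    exact ⟨c * a * c⁻¹, hn c hc' a ha, by simp⟩
  · rintro c hc hc1 _ ⟨a, ha, rfl⟩ hca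
    obtain ⟨c, rfl⟩ := e.surjective c
    have hc' : c * x = x * c := by
      apply e.injective
      rw [map_mul, map_mul, hc]
    have hca' : c * a = a * c := by
      apply e.injective
      rw [map_mul, map_mul]
      exact hca
    have : a = 1 := hs c hc' (fun h => hc1 (by rw [h, map_one])) a ha hca'
    rw [this, map_one]

/-- Commuting operators on an invariant nonzero subspace have a common eigenvector. -/
theorem exists_common_eigen {V : Type*} [AddCommGroup V] [Module ℂ V] [FiniteDimensional ℂ V]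
    {ι : Type*} (f : ι → Module.End ℂ V) (hf : ∀ i j, Commute (f i) (f j)) :
    ∀ (n : ℕ) (W : Submodule ℂ V), Module.finrank ℂ W = n → W ≠ ⊥ →
      (∀ i, ∀ w ∈ W, f i w ∈ W) → ∃ v ∈ W, v ≠ 0 ∧ ∀ i, ∃ μ : ℂ, f i v = μ • v := by
  intro n
  induction n using Nat.strong_induction_on with
  | _ n ih =>
    intro W hn hW hinv
    by_cases hsc : ∀ i, ∃ μ : ℂ, ∀ w ∈ W, f i w = μ • w
    · obtain ⟨v, hv, hv0⟩ := Submodule.exists_mem_ne_zero_of_ne_bot hW
      refine ⟨v, hv, hv0, fun i => ?_⟩
      obtain ⟨μ, hμ⟩ := hsc i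
      exact ⟨μ, hμ v hv⟩
    · push Not at hsc
      obtain ⟨i, hi⟩ := hsc
      have : Nontrivial W := Submodule.nontrivial_iff_ne_bot.2 hW
      obtain ⟨μ, hμ⟩ := Module.End.exists_eigenvalue ((f i).restrict (hinv i))
      obtain ⟨⟨u, huW⟩, hu⟩ := hμ.exists_hasEigenvector
      have hu1 : f i u = μ • u := by
        have := hu.apply_eq_smul
        simpa using congrArg Subtype.val this
      have hu0 : u ≠ 0 := fun h => hu.2 (by ext; exact h)
      obtain ⟨w, hw, hwne⟩ := hi μ
      let W' : Submodule ℂ V := W ⊓ LinearMap.ker (f i - μ • (1 : Module.End ℂ V))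
      have hmem : ∀ v, v ∈ W' ↔ v ∈ W ∧ f i v = μ • v := by
        intro v
        simp [W', LinearMap.mem_ker, sub_eq_zero]
      have hlt : W' < W := by
        refine lt_of_le_of_ne inf_le_left ?_
        intro h
        apply hwne
        exact ((hmem w).1 (h ▸ hw)).2
      have hbot : W' ≠ ⊥ := by
        intro h
        have : u ∈ W' := (hmem u).2 ⟨huW, hu1⟩
        rw [h, Submodule.mem_bot] at this
        exact hu0 this
      obtain ⟨v, hv, hv0, hve⟩ := ih (Module.finrank ℂ W')
        (hn ▸ Submodule.finrank_lt_finrank_of_lt hlt) W' rfl hbot (by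
          intro j v hv
          obtain ⟨h1, h2⟩ := (hmem v).1 hv
          refine (hmem _).2 ⟨hinv j v h1, ?_⟩
          have := congrArg (fun g : Module.End ℂ V => g v) (hf i j).eq
          simp only [Module.End.mul_apply] at this
          rw [this, h2, map_smul])
      exact ⟨v, hlt.le hv, hv0, hve⟩

/-- The representation-theoretic half of criterion F. -/
theorem exists_fixed {G : Type*} [Group G] [Finite G] {x : G} {A : Subgroup G}
    (hab : ∀ a ∈ A, ∀ b ∈ A, a * b = b * a)
    (hn : ∀ c : G, c * x = x * c → ∀ a ∈ A, c * a * c⁻¹ ∈ A)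
    (hs : ∀ c : G, c * x = x * c → c ≠ 1 → ∀ a ∈ A, c * a = a * c → a = 1)
    {V : Type*} [AddCommGroup V] [Module ℂ V] [FiniteDimensional ℂ V]
    (ρ : Representation ℂ G V) {a₀ : G} (ha₀ : a₀ ∈ A) (hρ : ρ a₀ ≠ 1) :
    ∃ v : V, v ≠ 0 ∧ ∀ c, c * x = x * c → ρ c v = v := by
  classical
  have := Fintype.ofFinite G
  have : Fintype A := Fintype.ofFinite A
  -- averaging operator over `A`
  let P : Module.End ℂ V := (Fintype.card A : ℂ)⁻¹ • ∑ a : A, ρ a
  have hcard : (Fintype.card A : ℂ) ≠ 0 := by
    exact_mod_cast Fintype.card_ne_zero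
  have hcomm : ∀ i j : A, Commute (ρ i) (ρ j) := by
    intro i j
    change ρ i * ρ j = ρ j * ρ i
    rw [← map_mul, ← map_mul, hab _ i.2 _ j.2]
  have hPa : ∀ a : A, ρ a * P = P := by
    intro a
    simp only [P, mul_smul_comm, Finset.mul_sum]
    congr 1
    apply Fintype.sum_equiv (Equiv.mulLeft a)
    intro b
    simp
  have hker : LinearMap.ker P ≠ ⊥ := by
    intro h
    apply hρ
    have hinj : Function.Injective P := LinearMap.ker_eq_bot.1 h
    have hsurj : Function.Surjective P := LinearMap.injective_iff_surjective.1 hinj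
    ext v
    obtain ⟨w, rfl⟩ := hsurj v
    have := congrArg (fun g : Module.End ℂ V => g w) (hPa ⟨a₀, ha₀⟩)
    simpa using this
  have hcP : ∀ a : A, Commute P (ρ a) := by
    intro a
    apply Commute.smul_left
    exact Commute.sum_left _ _ _ fun b _ => hcomm b a
  obtain ⟨v, hv, hv0, hve⟩ := exists_common_eigen (fun a : A => ρ a) hcomm _
    (LinearMap.ker P) rfl hker (by
      intro a w hw
      rw [LinearMap.mem_ker] at hw ⊢
      have := congrArg (fun g : Module.End ℂ V => g w) (hcP a).eq
      simp only [Module.End.mul_apply] at this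
      rw [this, hw, map_zero])
  choose μ hμ using hve
  have hsm : ∀ s t : ℂ, s • v = t • v → s = t := by
    intro s t h
    exact smul_left_injective ℂ hv0 h
  -- the weight as a homomorphism
  let χ : A →* ℂ :=
    { toFun := μ
      map_one' := hsm _ _ (by rw [← hμ]; simp)
      map_mul' := fun a b => hsm _ _ (by
        rw [← hμ, Subgroup.coe_mul, map_mul, Module.End.mul_apply, hμ b, map_smul, hμ a, smul_smul,
          mul_comm]) }
  have hχ : ∀ a : A, ρ a v = χ a • v := hμ
  have hχ1 : χ ≠ 1 := by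
    intro h
    rw [LinearMap.mem_ker] at hv
    apply hv0
    have h1 : P v = v := by
      simp only [P, LinearMap.smul_apply, LinearMap.sum_apply, hχ, h, MonoidHom.one_apply,
        one_smul, Finset.sum_const, Finset.card_univ]
      rw [← Nat.cast_smul_eq_nsmul ℂ, smul_smul, inv_mul_cancel₀ hcard, one_smul]
    rw [← h1, hv]
  -- conjugation by elements of the centraliser
  let C : Finset G := Finset.univ.filter fun c : G => c * x = x * c
  have hC : ∀ c, c ∈ C ↔ c * x = x * c := by intro c; simp [C]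
  have hinv : ∀ c : G, c * x = x * c → c⁻¹ * x = x * c⁻¹ := by
    intro c h
    rw [inv_mul_eq_iff_eq_mul, ← mul_assoc, h, mul_assoc, mul_inv_cancel, mul_one]
  have hmul : ∀ c d : G, c * x = x * c → d * x = x * d → (c * d) * x = x * (c * d) := by
    intro c d h1 h2
    rw [mul_assoc, h2, ← mul_assoc, h1, mul_assoc]
  have hcn : ∀ c : G, c * x = x * c → ∀ a : A, c⁻¹ * (a : G) * c ∈ A := by
    intro c hc a
    have := hn c⁻¹ (hinv c hc) a a.2
    simpa using this
  let S : V := ∑ c ∈ C, ρ c v
  have hfix : ∀ c, c * x = x * c → ρ c S = S := by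
    intro c hc
    simp only [S, map_sum]
    have h1 : ∀ d, ρ c (ρ d v) = ρ (c * d) v := by
      intro d; rw [map_mul, Module.End.mul_apply]
    simp only [h1]
    apply Finset.sum_nbij' (fun d => c * d) (fun d => c⁻¹ * d)
    · intro d hd
      rw [hC] at hd ⊢
      exact hmul c d hc hd
    · intro d hd
      rw [hC] at hd ⊢
      exact hmul _ d (hinv c hc) hd
    · intro d _
      simp
    · intro d _
      simp
    · intro d _
      rfl
  refine ⟨S, ?_, hfix⟩
  intro hS
  -- projection onto the weight space of `χ`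
  let Q : Module.End ℂ V := ∑ a : A, χ a⁻¹ • ρ a
  have hQc : ∀ c ∈ C, Q (ρ c v) = if c = 1 then (Fintype.card A : ℂ) • v else 0 := by
    intro c hcC
    have hc := (hC c).1 hcC
    have hval : ∀ a : A, ρ a (ρ c v) = χ ⟨c⁻¹ * (a : G) * c, hcn c hc a⟩ • ρ c v := by
      intro a
      have h2 : (a : G) * c = c * (c⁻¹ * (a : G) * c) := by group
      calc ρ a (ρ c v) = ρ ((a : G) * c) v := by rw [map_mul, Module.End.mul_apply]
        _ = ρ (c * (c⁻¹ * (a : G) * c)) v := by rw [← h2]
        _ = ρ c (ρ (c⁻¹ * (a : G) * c) v) := by rw [map_mul, Module.End.mul_apply]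
        _ = ρ c (χ ⟨c⁻¹ * (a : G) * c, hcn c hc a⟩ • v) := by
            rw [← hχ ⟨c⁻¹ * (a : G) * c, hcn c hc a⟩]
        _ = _ := by rw [map_smul]
    -- the homomorphism `a ↦ χ(a⁻¹ · a^c)`
    let ν : A →* ℂ :=
      { toFun := fun a => χ (a⁻¹ * ⟨c⁻¹ * (a : G) * c, hcn c hc a⟩)
        map_one' := by
          have : (⟨c⁻¹ * ((1 : A) : G) * c, hcn c hc 1⟩ : A) = 1 := by
            ext; simp
          rw [this]; simp
        map_mul' := by
          intro a b
          have h3 : (⟨c⁻¹ * ((a * b : A) : G) * c, hcn c hc (a * b)⟩ : A)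
              = ⟨c⁻¹ * (a : G) * c, hcn c hc a⟩ * ⟨c⁻¹ * (b : G) * c, hcn c hc b⟩ := by
            ext
            simp only [Subgroup.coe_mul]
            group
          rw [h3, ← map_mul, mul_inv_rev]
          congr 1
          ext
          simp only [Subgroup.coe_mul, Subgroup.coe_inv]
          have e1 : ∀ s t : A, (s : G) * t = t * s := fun s t => hab s s.2 t t.2
          have e2 := e1 (b⁻¹) (a⁻¹)
          have e3 := e1 (b⁻¹) ⟨c⁻¹ * (a : G) * c, hcn c hc a⟩
          simp only [Subgroup.coe_inv] at e2 e3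
          calc ((b : G)⁻¹ * (a : G)⁻¹) * ((c⁻¹ * (a : G) * c) * (c⁻¹ * (b : G) * c))
              = ((a : G)⁻¹ * (b : G)⁻¹) * ((c⁻¹ * (a : G) * c) * (c⁻¹ * (b : G) * c)) := by rw [e2]
            _ = (a : G)⁻¹ * ((b : G)⁻¹ * (c⁻¹ * (a : G) * c)) * (c⁻¹ * (b : G) * c) := by
                simp only [mul_assoc]
            _ = (a : G)⁻¹ * ((c⁻¹ * (a : G) * c) * (b : G)⁻¹) * (c⁻¹ * (b : G) * c) := by rw [e3]
            _ = _ := by simp only [mul_assoc] }
    have hQ1 : Q (ρ c v) = (∑ a : A, ν a) • ρ c v := by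
      simp only [Q, LinearMap.sum_apply, LinearMap.smul_apply, hval, smul_smul, Finset.sum_smul]
      apply Finset.sum_congr rfl
      intro a _
      congr 1
      change _ = χ (a⁻¹ * ⟨c⁻¹ * (a : G) * c, hcn c hc a⟩)
      rw [map_mul]
    split_ifs with hc1
    · subst hc1
      have h4 : ∀ a : A, ν a = 1 := by
        intro a
        change χ (a⁻¹ * ⟨(1 : G)⁻¹ * (a : G) * 1, hcn 1 hc a⟩) = 1
        have : (⟨(1 : G)⁻¹ * (a : G) * 1, hcn 1 hc a⟩ : A) = a := by ext; simp
        rw [this]; simp
      rw [hQ1]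
      simp [h4, Finset.card_univ]
    · rw [hQ1]
      have h5 : ν ≠ 1 := by
        intro hν
        apply hχ1
        -- the map `a ↦ a⁻¹ a^c` is injective, hence surjective
        let φ : A → A := fun a => a⁻¹ * ⟨c⁻¹ * (a : G) * c, hcn c hc a⟩
        have hφ : Function.Injective φ := by
          intro a b hab'
          have h6 : (a : G)⁻¹ * (c⁻¹ * (a : G) * c) = (b : G)⁻¹ * (c⁻¹ * (b : G) * c) :=
            congrArg Subtype.val hab'
          have h7 : (b : G) * (a : G)⁻¹ = (c⁻¹ * (b : G) * c) * (c⁻¹ * (a : G) * c)⁻¹ := by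
            have h8 : (b : G) * (a : G)⁻¹ * (c⁻¹ * (a : G) * c) = c⁻¹ * (b : G) * c := by
              rw [mul_assoc, h6]; group
            rw [← h8]; group
          have h9 : c * ((b : G) * (a : G)⁻¹) = ((b : G) * (a : G)⁻¹) * c := by
            have : (c⁻¹ * (b : G) * c) * (c⁻¹ * (a : G) * c)⁻¹ = c⁻¹ * ((b : G) * (a : G)⁻¹) * c := by
              group
            rw [this] at h7
            calc c * ((b : G) * (a : G)⁻¹) = c * (c⁻¹ * ((b : G) * (a : G)⁻¹) * c) := by rw [← h7]
              _ = _ := by group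
          have h10 := hs c hc hc1 _ (A.mul_mem b.2 (A.inv_mem a.2)) h9
          ext
          exact (mul_inv_eq_one.1 h10).symm
        have hφs : Function.Surjective φ := Finite.injective_iff_surjective.1 hφ
        ext b
        obtain ⟨a, rfl⟩ := hφs b
        exact DFunLike.congr_fun hν a
      rw [sum_hom_units_eq_zero ν h5, zero_smul]
  have h11 : Q S = (Fintype.card A : ℂ) • v := by
    simp only [S, map_sum]
    rw [Finset.sum_congr rfl hQc, Finset.sum_ite_eq']
    have : (1 : G) ∈ C := by simp [C]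
    rw [if_pos this]
  rw [hS, map_zero] at h11
  have := smul_eq_zero.1 h11.symm
  rcases this with h | h
  · exact hcard h
  · exact hv0 h

/-- Criterion F: if `FrobCent G` and the kernel of the representation is trivial on some `A ≠ 1`
(for instance `G` simple and `ρ` nontrivial), then some centraliser has a nonzero fixed vector. -/
theorem FrobCent.exists_fixed {G : Type*} [Group G] [Finite G] (h : FrobCent G)
    {V : Type*} [AddCommGroup V] [Module ℂ V] [FiniteDimensional ℂ V]
    (ρ : Representation ℂ G V) (hρ : Function.Injective ρ) :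
    ∃ x : G, ∃ v : V, v ≠ 0 ∧ ∀ c, c * x = x * c → ρ c v = v := by
  obtain ⟨x, A, hA, hab, hn, hs⟩ := h
  obtain ⟨a₀, ha₀, ha₀1⟩ := Subgroup.bot_or_exists_ne_one A |>.resolve_left hA
  obtain ⟨v, hv⟩ := CJ.exists_fixed hab hn hs ρ ha₀ (fun h => ha₀1 (hρ (by rw [h, map_one])))
  exact ⟨x, v, hv⟩

end Cfsg.Agent.H917.CJ
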